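import Mathlib

/-!
# Exact lifting of the Lyons relators 73-82 and 84

In a central extension the relators 1-44 are assumed exact (they are encoded here by the identities between
words in `a, b, c, d` which are used); the lift of `z` can be corrected so that 73-82 and 84 hold exactly.
-/

set_option autoImplicit false

namespace Cfsg.Agent.Lib.LyMult97

variable {E : Type*} [Group E]

/-- The identities inside `⟨a, b, c, d⟩` which the lifting argument uses. -/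
structure HFacts (a d u : E) (c1 c2 c3 c4 c5 a2 a3 a4 : E) (x162 x163 x164 x165 x166 x167 x168 x169 : E)
    (x29 x369 : E) : Prop where
  u8 : u ^ 4 = 1
  a4sq : a4 * a4 = u
  c1p : c1 ^ 5 = 1
  x162p : x162 ^ 5 = 1
  c3p : c3 ^ 5 = 1
  x164p : x164 ^ 5 = 1
  c2def : a⁻¹ * c1 * a = c2
  x163def : x167⁻¹ * x162 * x167 = x163
  r22 : a⁻¹ * c2 * a = (c1 ^ 2)⁻¹
  x22 : x167⁻¹ * x163 * x167 = (x162 ^ 2)⁻¹
  r23 : a⁻¹ * c3 * a = (c3 ^ 2)⁻¹ * c1 * c4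
  x23 : x167⁻¹ * x164 * x167 = (x164 ^ 2)⁻¹ * x162 * x165
  r24 : a⁻¹ * c4 * a = c1 * c2⁻¹ * c3⁻¹ * c4 * c1 * c4
  x24 : x167⁻¹ * x165 * x167 = x162 * x163⁻¹ * x164⁻¹ * x165 * x162 * x165
  c5def : c1⁻¹ * c2⁻¹ * c1 * c2 = c5
  x166def : x162⁻¹ * x163⁻¹ * x162 * x163 = x166
  k1 : a4⁻¹ * a * a4 = a * u ^ 2
  k2 : a4⁻¹ * a2 * a4 = a2 * u ^ 2
  x167def : x167 = a * u ^ 2
  x168def : x168 = a2 * u ^ 2
  k1' : a4⁻¹ * x167 * a4 = a
  k2' : a4⁻¹ * x168 * a4 = a2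
  a3def : (a3 * a2)⁻¹ * a2 * (a3 * a2) = a3
  x169def : (x169 * x168)⁻¹ * x168 * (x169 * x168) = x169
  hd : d⁻¹ * (x167 * x169) * d = a3 * a
  xh : (a * a3)⁻¹ * x369 * (a * a3) = x369⁻¹
  ym : (x169 * x167)⁻¹ * x29⁻¹ * (x169 * x167) = x29
  x369p : x369 ^ 3 = 1
  x29p : x29 ^ 3 = 1

/-- Central elements move through products. -/
theorem central_mul {e : E} (he : e ∈ Subgroup.center E) (g : E) : g * e = e * g :=
  Subgroup.mem_center_iff.1 he g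

theorem conj_mul_central {e : E} (he : e ∈ Subgroup.center E) (g x : E) :
    g⁻¹ * (x * e) * g = g⁻¹ * x * g * e := by
  have := central_mul he g
  calc g⁻¹ * (x * e) * g = g⁻¹ * x * (e * g) := by group
    _ = g⁻¹ * x * (g * e) := by rw [this]
    _ = _ := by group

theorem conj_eq_iff {z x y : E} : z⁻¹ * x * z = y ↔ x * z = z * y := by
  constructor
  · rintro rfl; group
  · intro h; rw [mul_assoc, h]; group

/-- The conjugation relations, up to the centre. -/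
structure ModFacts (Z : Subgroup E) (a d u c1 c2 c3 c4 c5 a2 a3 a4 z : E) (x162 x163 x164 x165 x166 x167 x168 x169 : E)
    (x29 x369 : E) : Prop where
  m73 : x162⁻¹ * (z⁻¹ * c1 * z) ∈ Z
  m74 : x163⁻¹ * (z⁻¹ * c2 * z) ∈ Z
  m75 : x164⁻¹ * (z⁻¹ * c3 * z) ∈ Z
  m76 : x165⁻¹ * (z⁻¹ * c4 * z) ∈ Z
  m77 : x166⁻¹ * (z⁻¹ * c5 * z) ∈ Z
  m78 : x167⁻¹ * (z⁻¹ * a * z) ∈ Z
  m79 : x168⁻¹ * (z⁻¹ * a2 * z) ∈ Z
  m80 : x169⁻¹ * (z⁻¹ * a3 * z) ∈ Z
  m81 : z * z * u⁻¹ ∈ Z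
  m82 : (a4 * z) ^ 3 * u ∈ Z
  m84 : z⁻¹ * d⁻¹ * z⁻¹ * x369 * z * d * z * x29 ∈ Z

variable {Z : Subgroup E} {a d u c1 c2 c3 c4 c5 a2 a3 a4 z x162 x163 x164 x165 x166 x167 x168 x169 x29 x369 : E}

theorem five_two {e : E} (h2 : e ^ 2 = 1) (h5 : e ^ 5 = 1) : e = 1 := by
  have : e ^ 5 = (e ^ 2) ^ 2 * e := by group
  rwa [h2, one_pow, one_mul, h5, eq_comm] at this

/-- The conjugates of `c1, ..., c5` are exact. -/
theorem c_exact (H : HFacts a d u c1 c2 c3 c4 c5 a2 a3 a4 x162 x163 x164 x165 x166 x167 x168 x169 x29 x369)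
    (hZ : Z ≤ Subgroup.center E) (M : ModFacts Z a d u c1 c2 c3 c4 c5 a2 a3 a4 z x162 x163 x164 x165 x166 x167 x168 x169 x29 x369) :
    z⁻¹ * c1 * z = x162 ∧ z⁻¹ * c2 * z = x163 ∧ z⁻¹ * c3 * z = x164 ∧ z⁻¹ * c4 * z = x165 ∧
      z⁻¹ * c5 * z = x166 := by
  let φ : E →* E := (MulAut.conj z⁻¹).toMonoidHom
  have hφ : ∀ g, φ g = z⁻¹ * g * z := fun g => by simp [φ]
  obtain ⟨e1, he1, h1⟩ : ∃ e ∈ Subgroup.center E, φ c1 = x162 * e := ⟨_, hZ M.m73, by rw [hφ]; group⟩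
  obtain ⟨e2, he2, h2⟩ : ∃ e ∈ Subgroup.center E, φ c2 = x163 * e := ⟨_, hZ M.m74, by rw [hφ]; group⟩
  obtain ⟨e3, he3, h3⟩ : ∃ e ∈ Subgroup.center E, φ c3 = x164 * e := ⟨_, hZ M.m75, by rw [hφ]; group⟩
  obtain ⟨e4, he4, h4⟩ : ∃ e ∈ Subgroup.center E, φ c4 = x165 * e := ⟨_, hZ M.m76, by rw [hφ]; group⟩
  obtain ⟨e5, he5, h5⟩ : ∃ e ∈ Subgroup.center E, φ c5 = x166 * e := ⟨_, hZ M.m77, by rw [hφ]; group⟩
  obtain ⟨f, hf, ha⟩ : ∃ e ∈ Subgroup.center E, φ a = x167 * e := ⟨_, hZ M.m78, by rw [hφ]; group⟩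
  have hconj : ∀ {g x e : E}, e ∈ Subgroup.center E → φ g = x * e →
      φ (a⁻¹ * g * a) = x167⁻¹ * x * x167 * e := by
    intro g x e he hg
    rw [map_mul, map_mul, map_inv, hg, ha]
    have := central_mul hf
    calc (x167 * f)⁻¹ * (x * e) * (x167 * f) = f⁻¹ * (x167⁻¹ * (x * e) * x167) * f := by group
      _ = f⁻¹ * ((x167⁻¹ * (x * e) * x167) * f) := by group
      _ = x167⁻¹ * (x * e) * x167 := by rw [this]; group
      _ = _ := conj_mul_central he _ _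
  have k2 : e2 = e1 := by
    have := hconj he1 h1
    rw [H.c2def, h2, H.x163def] at this
    exact mul_left_cancel this
  have k3 : e1 ^ 3 = 1 := by
    have := hconj he2 h2
    rw [H.r22, map_inv, map_pow, h1, H.x22, k2, Commute.mul_pow (central_mul he1 x162), mul_inv_rev,
      ← central_mul (inv_mem (pow_mem he1 2)) ((x162 ^ 2)⁻¹)] at this
    have := mul_left_cancel this
    calc e1 ^ 3 = e1 ^ 2 * e1 := by group
      _ = e1 ^ 2 * (e1 ^ 2)⁻¹ := by rw [this]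
      _ = 1 := by group
  have k1 : e1 = 1 := by
    have h5' : φ c1 ^ 5 = 1 := by rw [← map_pow, H.c1p, map_one]
    rw [h1, Commute.mul_pow (central_mul he1 x162), H.x162p, one_mul] at h5'
    exact five_two (by calc e1 ^ 2 = e1 ^ 5 * (e1 ^ 3)⁻¹ := by group
      _ = 1 := by rw [h5', k3]; group) h5'
  subst k1; subst k2
  rw [mul_one] at h1 h2
  have k34 : e4 = e3 ^ 3 := by
    have := hconj he3 h3
    rw [H.r23, map_mul, map_mul, map_inv, map_pow, h3, h1, h4, H.x23,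
      Commute.mul_pow (central_mul he3 x164)] at this
    have c' := central_mul (inv_mem (pow_mem he3 2))
    have e : (x164 ^ 2 * e3 ^ 2)⁻¹ * x162 * (x165 * e4) =
        (x164 ^ 2)⁻¹ * x162 * x165 * ((e3 ^ 2)⁻¹ * e4) :=
      calc (x164 ^ 2 * e3 ^ 2)⁻¹ * x162 * (x165 * e4) = (e3 ^ 2)⁻¹ * ((x164 ^ 2)⁻¹ * x162 * x165) * e4 := by
            group
        _ = (x164 ^ 2)⁻¹ * x162 * x165 * (e3 ^ 2)⁻¹ * e4 := by rw [← c']
        _ = _ := by group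
    rw [e] at this
    have := mul_left_cancel this
    calc e4 = e3 ^ 2 * ((e3 ^ 2)⁻¹ * e4) := by group
      _ = e3 ^ 2 * e3 := by rw [this]
      _ = e3 ^ 3 := by group
  have k43 : e4 = e3 := by
    have := hconj he4 h4
    rw [H.r24, map_mul, map_mul, map_mul, map_mul, map_mul, map_inv, map_inv, h1, h2, h3, h4, H.x24] at this
    have c3' := central_mul (inv_mem he3)
    have c4' := central_mul he4
    have e : x162 * x163⁻¹ * (x164 * e3)⁻¹ * (x165 * e4) * x162 * (x165 * e4) =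
        x162 * x163⁻¹ * x164⁻¹ * x165 * x162 * x165 * (e3⁻¹ * e4 * e4) :=
      calc x162 * x163⁻¹ * (x164 * e3)⁻¹ * (x165 * e4) * x162 * (x165 * e4)
          = x162 * x163⁻¹ * (e3⁻¹ * (x164⁻¹ * x165)) * (e4 * (x162 * x165)) * e4 := by group
        _ = x162 * x163⁻¹ * ((x164⁻¹ * x165) * e3⁻¹) * ((x162 * x165) * e4) * e4 := by rw [← c3', ← c4']
        _ = x162 * x163⁻¹ * (x164⁻¹ * x165) * (e3⁻¹ * (x162 * x165)) * e4 * e4 := by group
        _ = x162 * x163⁻¹ * (x164⁻¹ * x165) * ((x162 * x165) * e3⁻¹) * e4 * e4 := by rw [← c3']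
        _ = _ := by group
    rw [e] at this
    have := mul_left_cancel this
    calc e4 = e3 * (e3⁻¹ * e4 * e4) * e4⁻¹ := by group
      _ = e3 * e4 * e4⁻¹ := by rw [this]
      _ = e3 := by group
  have k30 : e3 = 1 := by
    have h5' : φ c3 ^ 5 = 1 := by rw [← map_pow, H.c3p, map_one]
    rw [h3, Commute.mul_pow (central_mul he3 x164), H.x164p, one_mul] at h5'
    exact five_two (by calc e3 ^ 2 = e3⁻¹ * e3 ^ 3 := by group
      _ = 1 := by rw [← k34, k43]; group) h5'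
  subst k30; subst k43
  rw [mul_one] at h3 h4
  refine ⟨hφ c1 ▸ h1, hφ c2 ▸ h2, hφ c3 ▸ h3, hφ c4 ▸ h4, ?_⟩
  rw [← hφ, ← H.c5def]
  simp only [map_mul, map_inv, h1, h2, H.x166def]

/-- After scaling by a central element the relators 81 and 82 are exact. -/
theorem exists_scale {w : E} (hu : u ^ 4 = 1) (ha4 : a4 * a4 = u) (hZ : Z ≤ Subgroup.center E)
    (hμ' : w * w * u⁻¹ ∈ Z) (hν' : (a4 * w) ^ 3 * u ∈ Z) :
    ∃ α ∈ Z, (w * α) * (w * α) = u ∧ (a4 * (w * α)) ^ 3 * u = 1 := by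
  have hμ := hZ hμ'
  have hν := hZ hν'
  set μ := w * w * u⁻¹ with hμd
  set ν := (a4 * w) ^ 3 * u with hνd
  have hμc : ∀ g, Commute g μ := fun g => central_mul hμ g
  have hνc : ∀ g, Commute g ν := fun g => central_mul hν g
  have hww : w * w = u * μ := by rw [(hμc u).eq, hμd]; group
  have hwu : Commute u w := by
    have h1 : Commute (w * w) w := (Commute.refl w).mul_left (Commute.refl w)
    have h2 : u = w * w * μ⁻¹ := by rw [hww]; group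
    rw [h2]
    exact h1.mul_left (hμc w).symm.inv_left
  have hua : Commute u a4 := by rw [← ha4]; exact (Commute.refl a4).mul_left (Commute.refl a4)
  have hw3 : (a4 * w) ^ 3 = ν * u⁻¹ := by rw [hνd]; group
  have key : μ ^ 3 = ν ^ 2 := by
    have hbase : w * a4 = u ^ 2 * μ * (a4 * w)⁻¹ := by
      calc w * a4 = (w * w) * (w⁻¹ * a4⁻¹) * (a4 * a4) := by group
        _ = u * μ * (a4 * w)⁻¹ * u := by rw [hww, ha4]; group
        _ = u * μ * ((a4 * w)⁻¹ * u) := by group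
        _ = u * μ * (u * (a4 * w)⁻¹) := by rw [((hua.mul_right hwu).inv_right).eq]
        _ = u * (μ * u) * (a4 * w)⁻¹ := by group
        _ = u * (u * μ) * (a4 * w)⁻¹ := by rw [(hμc u).eq]
        _ = _ := by rw [pow_two]; group
    have hl : (w * a4) ^ 3 = ν * u⁻¹ := by
      calc (w * a4) ^ 3 = w * (a4 * w) ^ 3 * w⁻¹ := by simp only [pow_succ, pow_zero, one_mul]; group
        _ = w * (ν * u⁻¹) * w⁻¹ := by rw [hw3]
        _ = (w * ν) * u⁻¹ * w⁻¹ := by group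
        _ = (ν * w) * u⁻¹ * w⁻¹ := by rw [(hνc w).eq]
        _ = ν * (w * u⁻¹) * w⁻¹ := by group
        _ = ν * (u⁻¹ * w) * w⁻¹ := by rw [hwu.inv_left.eq]
        _ = _ := by group
    have hc1 : Commute (u ^ 2 * μ) (a4 * w)⁻¹ :=
      (((hua.mul_right hwu).pow_left 2).inv_right).mul_left (hμc _).symm
    rw [hbase, hc1.mul_pow, ((hμc (u ^ 2))).mul_pow, inv_pow, hw3] at hl
    have hu8 : u ^ 8 = 1 := by rw [show u ^ 8 = (u ^ 4) ^ 2 by group, hu, one_pow]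
    calc μ ^ 3 = u ^ 8 * μ ^ 3 := by rw [hu8, one_mul]
      _ = u * (u ^ 2) ^ 3 * (u * μ ^ 3) := by simp only [pow_succ, pow_zero, one_mul]; group
      _ = u * (u ^ 2) ^ 3 * (μ ^ 3 * u) := by rw [((hμc u).pow_right 3).eq]
      _ = u * ((u ^ 2) ^ 3 * μ ^ 3) * u := by group
      _ = u * ((u ^ 2) ^ 3 * μ ^ 3 * (ν * u⁻¹)⁻¹) * ν := by group
      _ = u * (ν * u⁻¹) * ν := by rw [hl]
      _ = (u * ν) * u⁻¹ * ν := by group
      _ = (ν * u) * u⁻¹ * ν := by rw [(hνc u).eq]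
      _ = ν ^ 2 := by rw [pow_two]; group
  refine ⟨μ * ν⁻¹, mul_mem hμ' (inv_mem hν'), ?_, ?_⟩
  · have hα : Commute w (μ * ν⁻¹) := (hμc w).mul_right (hνc w).inv_right
    calc w * (μ * ν⁻¹) * (w * (μ * ν⁻¹)) = (w * (μ * ν⁻¹)) ^ 2 := (pow_two _).symm
      _ = w * w * (μ * ν⁻¹) ^ 2 := by rw [hα.mul_pow, pow_two w]
      _ = u * (μ * (μ ^ 2 * (ν⁻¹) ^ 2)) := by rw [hww, (hνc μ).inv_right.mul_pow]; group
      _ = u * (μ ^ 3 * (ν ^ 2)⁻¹) := by group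
      _ = u := by rw [key]; group
  · have hα : Commute (a4 * w) (μ * ν⁻¹) := (hμc _).mul_right (hνc _).inv_right
    calc (a4 * (w * (μ * ν⁻¹))) ^ 3 * u = (a4 * w * (μ * ν⁻¹)) ^ 3 * u := by group
      _ = ν * u⁻¹ * (μ ^ 3 * (ν⁻¹) ^ 3) * u := by rw [hα.mul_pow, hw3, (hνc μ).inv_right.mul_pow]
      _ = ν * u⁻¹ * ν⁻¹ * u := by rw [key]; group
      _ = (ν * u⁻¹) * ν⁻¹ * u := by group
      _ = (u⁻¹ * ν) * ν⁻¹ * u := by rw [(hνc u⁻¹).eq]
      _ = 1 := by group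

/-- All the relators 73-82 and 84 are exact for a suitable lift of `z`. -/
theorem exists_exact (H : HFacts a d u c1 c2 c3 c4 c5 a2 a3 a4 x162 x163 x164 x165 x166 x167 x168 x169 x29 x369)
    (hZ : Z ≤ Subgroup.center E) (M : ModFacts Z a d u c1 c2 c3 c4 c5 a2 a3 a4 z x162 x163 x164 x165 x166 x167 x168 x169 x29 x369) :
    ∃ w : E, z⁻¹ * w ∈ Z ∧
      w⁻¹ * c1 * w = x162 ∧ w⁻¹ * c2 * w = x163 ∧ w⁻¹ * c3 * w = x164 ∧ w⁻¹ * c4 * w = x165 ∧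
      w⁻¹ * c5 * w = x166 ∧ w⁻¹ * a * w = x167 ∧ w⁻¹ * a2 * w = x168 ∧ w⁻¹ * a3 * w = x169 ∧
      w * w = u ∧ (a4 * w) ^ 3 * u = 1 ∧ w⁻¹ * d⁻¹ * w⁻¹ * x369 * w * d * w * x29 = 1 := by
  obtain ⟨α, hα', hsq, hcube⟩ := exists_scale H.u8 H.a4sq hZ M.m81 M.m82
  refine ⟨z * α, by simpa [← mul_assoc] using hα', ?_⟩
  have hα := hZ hα'
  have hc : ∀ g, (z * α)⁻¹ * g * (z * α) = z⁻¹ * g * z := fun g => by
    calc (z * α)⁻¹ * g * (z * α) = α⁻¹ * ((z⁻¹ * g * z) * α) := by group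
      _ = _ := by rw [central_mul hα]; group
  obtain ⟨h1, h2, h3, h4, h5⟩ := c_exact H hZ M
  simp only [← hc] at h1 h2 h3 h4 h5
  obtain ⟨f, hf, ha⟩ : ∃ e ∈ Subgroup.center E, (z * α)⁻¹ * a * (z * α) = x167 * e :=
    ⟨_, hZ M.m78, by rw [hc]; group⟩
  obtain ⟨f2, hf2, ha2⟩ : ∃ e ∈ Subgroup.center E, (z * α)⁻¹ * a2 * (z * α) = x168 * e :=
    ⟨_, hZ M.m79, by rw [hc]; group⟩
  obtain ⟨f3, hf3, ha3⟩ : ∃ e ∈ Subgroup.center E, (z * α)⁻¹ * a3 * (z * α) = x169 * e :=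
    ⟨_, hZ M.m80, by rw [hc]; group⟩
  obtain ⟨ρ, hρ, h84⟩ : ∃ e ∈ Subgroup.center E,
      (z * α)⁻¹ * d⁻¹ * (z * α)⁻¹ * x369 * (z * α) * d * (z * α) * x29 = e := by
    refine ⟨_, hZ M.m84, ?_⟩
    have c := central_mul hα
    calc (z * α)⁻¹ * d⁻¹ * (z * α)⁻¹ * x369 * (z * α) * d * (z * α) * x29
        = (z * α)⁻¹ * (d⁻¹ * ((z * α)⁻¹ * x369 * (z * α)) * d) * (z * α) * x29 := by group
      _ = z⁻¹ * (d⁻¹ * (z⁻¹ * x369 * z) * d) * z * x29 := by rw [hc, hc]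
      _ = _ := by group
  generalize z * α = w at *
  have hwu : u * w = w * u := by rw [← hsq]; group
  have ha4u : u * a4 = a4 * u := by rw [← H.a4sq]; group
  -- conjugation by `w * a4` maps `a4` to `w` and fixes `u`
  have hg4 : (w * a4)⁻¹ * a4 * (w * a4) = w := by
    have h3' : a4 * w * a4 * w * a4 * w * u = 1 := by rw [← hcube]; simp only [pow_succ, pow_zero, one_mul]; group
    calc (w * a4)⁻¹ * a4 * (w * a4)
        = a4⁻¹ * w⁻¹ * (a4 * w * a4 * w * a4 * w * u) * u⁻¹ * w⁻¹ * a4⁻¹ * w⁻¹ := by group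
      _ = a4⁻¹ * w⁻¹ * u⁻¹ * w⁻¹ * a4⁻¹ * w⁻¹ := by rw [h3']; group
      _ = a4⁻¹ * (w * u * w)⁻¹ * a4⁻¹ * w⁻¹ := by group
      _ = a4⁻¹ * (u * (w * w))⁻¹ * a4⁻¹ * w⁻¹ := by rw [← mul_assoc u, hwu]
      _ = a4⁻¹ * (u * u)⁻¹ * a4⁻¹ * w⁻¹ := by rw [hsq]
      _ = (a4 * (u * u) * a4)⁻¹ * w⁻¹ := by group
      _ = ((a4 * u) * u * a4)⁻¹ * w⁻¹ := by group
      _ = ((u * a4) * u * a4)⁻¹ * w⁻¹ := by rw [ha4u]
      _ = (u * (a4 * u) * a4)⁻¹ * w⁻¹ := by group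
      _ = (u * (u * a4) * a4)⁻¹ * w⁻¹ := by rw [ha4u]
      _ = (u * u * (a4 * a4))⁻¹ * w⁻¹ := by group
      _ = (u * u * u)⁻¹ * w⁻¹ := by rw [H.a4sq]
      _ = (u ^ 4)⁻¹ * ((u * w⁻¹)) := by group
      _ = (u * w⁻¹) := by rw [H.u8, inv_one, one_mul]
      _ = (w * w) * w⁻¹ := by rw [hsq]
      _ = w := by group
  have hgu : (w * a4)⁻¹ * u * (w * a4) = u := by
    rw [conj_eq_iff, ← mul_assoc, hwu, mul_assoc, ha4u, mul_assoc]
  have exact_of : ∀ {p q e : E}, e ∈ Subgroup.center E → w⁻¹ * p * w = q * e →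
      a4⁻¹ * q * a4 = p → a4⁻¹ * p * a4 = p * u ^ 2 → q = p * u ^ 2 → w⁻¹ * p * w = q := by
    intro p q e he hp hq hk hqd
    have hgp : (w * a4)⁻¹ * p * (w * a4) = p * e := by
      calc (w * a4)⁻¹ * p * (w * a4) = a4⁻¹ * (w⁻¹ * p * w) * a4 := by group
        _ = a4⁻¹ * (q * e) * a4 := by rw [hp]
        _ = p * e := by rw [conj_mul_central he, hq]
    let φ : E →* E := (MulAut.conj (w * a4)⁻¹).toMonoidHom
    have hφ : ∀ x, φ x = (w * a4)⁻¹ * x * (w * a4) := fun x => by simp [φ, mul_assoc]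
    have := congrArg φ hk
    simp only [map_mul, map_inv, map_pow, hφ p, hφ a4, hφ u, hgp, hg4, hgu] at this
    rw [conj_mul_central he, mul_assoc p e, ← central_mul he (u ^ 2), ← mul_assoc] at this
    rw [hqd]
    exact mul_right_cancel this
  have e1 : w⁻¹ * a * w = x167 := exact_of hf ha H.k1' H.k1 H.x167def
  have e2 : w⁻¹ * a2 * w = x168 := exact_of hf2 ha2 H.k2' H.k2 H.x168def
  have e3 : w⁻¹ * a3 * w = x169 := by
    have hc3 := central_mul hf3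
    calc w⁻¹ * a3 * w = w⁻¹ * ((a3 * a2)⁻¹ * a2 * (a3 * a2)) * w := by rw [H.a3def]
      _ = (w⁻¹ * a3 * w * (w⁻¹ * a2 * w))⁻¹ * (w⁻¹ * a2 * w) * (w⁻¹ * a3 * w * (w⁻¹ * a2 * w)) := by group
      _ = (x169 * f3 * x168)⁻¹ * x168 * (x169 * f3 * x168) := by rw [ha3, e2]
      _ = (x169 * (f3 * x168))⁻¹ * x168 * (x169 * (f3 * x168)) := by group
      _ = (x169 * (x168 * f3))⁻¹ * x168 * (x169 * (x168 * f3)) := by rw [hc3 x168]
      _ = f3⁻¹ * ((x169 * x168)⁻¹ * x168 * (x169 * x168) * f3) := by group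
      _ = x169 := by rw [H.x169def, hc3]; group
  refine ⟨h1, h2, h3, h4, h5, e1, e2, e3, hsq, hcube, ?_⟩
  let g := w * d * w
  have hX : g⁻¹ * x369 * g = ρ * x29⁻¹ := by rw [← h84]; simp only [g]; group
  have hH : g⁻¹ * (a * a3) * g = x169 * x167 := by
    calc g⁻¹ * (a * a3) * g = w⁻¹ * (d⁻¹ * (w⁻¹ * a * w * (w⁻¹ * a3 * w)) * d) * w := by
          simp only [g]; group
      _ = w⁻¹ * (a3 * a) * w := by rw [e1, e3, H.hd]
      _ = w⁻¹ * a3 * w * (w⁻¹ * a * w) := by group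
      _ = _ := by rw [e1, e3]
  let ψ : E →* E := (MulAut.conj g⁻¹).toMonoidHom
  have hψ : ∀ x, ψ x = g⁻¹ * x * g := fun x => by simp [ψ]
  have q3 : ρ ^ 3 = 1 := by
    have := congrArg ψ H.x369p
    rw [map_pow, map_one, hψ, hX, Commute.mul_pow ((central_mul hρ x29⁻¹).symm), inv_pow, H.x29p,
      inv_one, mul_one] at this
    exact this
  have q2 : ρ ^ 2 = 1 := by
    have := congrArg ψ H.xh
    simp only [map_mul, map_inv] at this
    have hprod : ψ a * ψ a3 = x169 * x167 := by rw [← map_mul, hψ]; exact hH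
    rw [hprod, hψ x369, hX, mul_inv_rev (a := ρ), inv_inv, ← central_mul hρ x29⁻¹, conj_mul_central hρ,
      H.ym] at this
    calc ρ ^ 2 = x29⁻¹ * (x29 * ρ) * ρ := by rw [pow_two]; group
      _ = x29⁻¹ * (x29 * ρ⁻¹) * ρ := by rw [this]
      _ = 1 := by group
  have : ρ = 1 := by
    calc ρ = ρ ^ 3 * (ρ ^ 2)⁻¹ := by group
      _ = 1 := by rw [q3, q2]; group
  rw [h84, this]

end Cfsg.Agent.Lib.LyMult97
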