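import Cfsg.Prelude.Def_Spor_Ly
import Cfsg.Agent.Lib.Schur.Cover
import Cfsg.Agent.Lib.LyMult97.Lift

/-!
# The multiplier of the presented Lyons group, from the order and the multiplier of `⟨a, b, c, d⟩`
-/

set_option autoImplicit false
set_option linter.unusedSimpArgs false

namespace Cfsg.Agent.Lib.LyMult97

open Cfsg Cfsg.Spor
open scoped commutatorElement

universe u

set_option maxRecDepth 100000

/-- Values of all thirty-nine generators from those of `a, b, c, d, z`. -/
def genVal {G : Type*} [Group G] (A B C D Z : G) : Ly.Gen → G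
  | .a => A
  | .b => B
  | .c => C
  | .d => D
  | .z => Z
  | .e => (B ^ 2)⁻¹ * (A⁻¹ * C⁻¹ * A * C) * A⁻¹ * C * A * D * C * B * A * B⁻¹ * D * C * D
  | .a1 => A
  | .a2 => (B⁻¹)⁻¹ * A * B⁻¹
  | .a3 => ((B ^ 2)⁻¹)⁻¹ * A * (B ^ 2)⁻¹
  | .a4 => (B ^ 2)⁻¹ * A * B ^ 2
  | .c1 => C
  | .c2 => A⁻¹ * C * A
  | .c3 => B⁻¹ * C * B
  | .c4 => (B⁻¹)⁻¹ * C * B⁻¹
  | .c5 => C⁻¹ * (A⁻¹ * C * A)⁻¹ * C * (A⁻¹ * C * A)
  | .u => A ^ 2
  | .x23 => D
  | .x24 => D⁻¹
  | .x25 => B ^ 2 * A⁻¹ * B⁻¹ * A⁻¹ * B ^ 2 * C⁻¹ * A * C * A⁻¹ * C⁻¹ * D * C⁻¹ * B ^ 2 * A⁻¹ * C * B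
  | .x29 => A * B * A⁻¹ * B ^ 2 * A⁻¹ * B ^ 2 * C⁻¹ * A * C * B * C * B⁻¹ * D * C * (B ^ 2)⁻¹ * D * C * B * C
  | .x47 => C⁻¹ * D⁻¹ * A⁻¹ * C⁻¹ * A⁻¹ * B * C⁻¹ * D⁻¹
  | .x96 => B * D
  | .x129 => D⁻¹ * B⁻¹
  | .x162 => A⁻¹ * B⁻¹ * A⁻¹ * B * C⁻¹ * B⁻¹ * A * C⁻¹ * B * A
  | .x163 => (B ^ 2)⁻¹ * A * C * A⁻¹ * B * C * B
  | .x164 => A⁻¹ * B⁻¹ * A⁻¹ * C * A * B * A
  | .x165 => B⁻¹ * A⁻¹ * B * C * B⁻¹ * A * B
  | .x166 => B ^ 2 * A⁻¹ * B⁻¹ * C * B * A * C * (B ^ 2)⁻¹ * C⁻¹
  | .x167 => (A ^ 3)⁻¹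
  | .x168 => B * A⁻¹ * B⁻¹ * (A ^ 2)⁻¹
  | .x169 => A * B ^ 2 * A * (B ^ 2)⁻¹ * A⁻¹
  | .x364 => A⁻¹ * D * B⁻¹ * C⁻¹ * A⁻¹ * B * C⁻¹ * D⁻¹ * B * C⁻¹ * B⁻¹ * A⁻¹ * C⁻¹ * A * B⁻¹ * A * B * A * B⁻¹
  | .x365 => A * (B ^ 2)⁻¹ * A⁻¹ * C * B * C⁻¹ * B * A⁻¹ * (C ^ 2)⁻¹ * D * C * A * C * A⁻¹ * C * B⁻¹ * D⁻¹
  | .x366 => B * A * B⁻¹ * A⁻¹ * (B ^ 2)⁻¹ * A⁻¹ * B⁻¹ * C * B ^ 2 * C * B * D * C * (B ^ 2)⁻¹ * D * C * B * C
  | .x367 => C⁻¹ * B⁻¹ * C⁻¹ * D⁻¹ * B ^ 2 * C⁻¹ * D⁻¹ * B⁻¹ * C⁻¹ * (B ^ 2)⁻¹ * C⁻¹ * B * A * B ^ 2 * A * B *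
      A⁻¹ * B⁻¹
  | .x368 => A⁻¹ * C⁻¹ * D⁻¹ * A * C⁻¹ * B⁻¹ * A * C⁻¹ * D⁻¹ * A⁻¹ * C⁻¹ * A * C * (B ^ 2)⁻¹ * C⁻¹ * B⁻¹ * A⁻¹ *
      (B ^ 2)⁻¹
  | .x369 => A⁻¹ * C⁻¹ * D⁻¹ * B * A⁻¹ * B⁻¹ * C⁻¹ * D⁻¹ * B * A⁻¹ * B⁻¹ * C⁻¹ * B⁻¹ * A * (B ^ 2)⁻¹ * A * B⁻¹
  | .x370 => D⁻¹ * A * C * B * C * A⁻¹ * C⁻¹ * D⁻¹ * A * B⁻¹ * A⁻¹ * C * A⁻¹ * (B ^ 2)⁻¹ * A⁻¹ * B * A⁻¹
  | .x371 => C⁻¹ * A⁻¹ * C * B * C⁻¹ * D⁻¹ * C * A⁻¹ * C * A * C * B⁻¹ * A⁻¹ * B⁻¹ * A⁻¹ * B

/-- The class of a generator in the presented group. -/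
noncomputable def gg (x : Ly.Gen) : Ly := PresentedGroup.of x

theorem rel_one {r : FreeGroup Ly.Gen} (hr : r ∈ Ly.extra) : FreeGroup.lift gg r = 1 := by
  have h : PresentedGroup.mk (coxRelators Ly.edges ∪ {r | r ∈ Ly.extra}) r = 1 :=
    PresentedGroup.one_of_mem (Or.inr hr)
  rw [← h]
  exact DFunLike.congr_fun (FreeGroup.ext_hom (FreeGroup.lift gg)
    (PresentedGroup.mk (coxRelators Ly.edges ∪ {r | r ∈ Ly.extra})) fun x => by simp [gg, PresentedGroup.of]) r

theorem genVal_map {G H : Type*} [Group G] [Group H] (f : G →* H) (A B C D Z : G) (x : Ly.Gen) :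
    f (genVal A B C D Z x) = genVal (f A) (f B) (f C) (f D) (f Z) x := by
  cases x <;> simp [genVal]

theorem rel_at (i : ℕ) {r : FreeGroup Ly.Gen} (h : Ly.extra[i]? = some r) : FreeGroup.lift gg r = 1 :=
  rel_one (List.mem_of_getElem? h)

theorem gg_eq (x : Ly.Gen) : gg x = genVal (gg .a) (gg .b) (gg .c) (gg .d) (gg .z) x := by
  have k1 : gg .c1 = gg .c := by
    have h := rel_at 5 (r := _) rfl
    simpa only [map_mul, map_inv, map_pow, FreeGroup.lift_apply_of, mul_inv_eq_one] using h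
  have k2 : gg .c2 = (gg .a)⁻¹ * gg .c * gg .a := by
    have h := rel_at 6 (r := _) rfl
    simpa only [map_mul, map_inv, map_pow, FreeGroup.lift_apply_of, mul_inv_eq_one] using h
  cases x
  case a => rfl
  case b => rfl
  case c => rfl
  case d => rfl
  case z => rfl
  case c1 =>
    have h := rel_at 5 (r := _) rfl
    simp only [map_mul, map_inv, map_pow, FreeGroup.lift_apply_of, mul_inv_eq_one] at h
    exact h
  case c2 =>
    have h := rel_at 6 (r := _) rfl
    simp only [map_mul, map_inv, map_pow, FreeGroup.lift_apply_of, mul_inv_eq_one] at h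
    exact h
  case c3 =>
    have h := rel_at 7 (r := _) rfl
    simp only [map_mul, map_inv, map_pow, FreeGroup.lift_apply_of, mul_inv_eq_one] at h
    exact h
  case c4 =>
    have h := rel_at 8 (r := _) rfl
    simp only [map_mul, map_inv, map_pow, FreeGroup.lift_apply_of, mul_inv_eq_one] at h
    exact h
  case c5 =>
    have h := rel_at 9 (r := _) rfl
    simp only [map_mul, map_inv, map_pow, FreeGroup.lift_apply_of, mul_inv_eq_one] at h
    simp only [k1, k2] at h
    exact h
  case e =>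
    have h := rel_at 28 (r := _) rfl
    simp only [map_mul, map_inv, map_pow, FreeGroup.lift_apply_of, mul_inv_eq_one] at h
    simp only [k1, k2] at h
    exact h
  case a1 =>
    have h := rel_at 44 (r := _) rfl
    simp only [map_mul, map_inv, map_pow, FreeGroup.lift_apply_of, mul_inv_eq_one] at h
    exact h
  case a2 =>
    have h := rel_at 45 (r := _) rfl
    simp only [map_mul, map_inv, map_pow, FreeGroup.lift_apply_of, mul_inv_eq_one] at h
    exact h
  case a3 =>
    have h := rel_at 46 (r := _) rfl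
    simp only [map_mul, map_inv, map_pow, FreeGroup.lift_apply_of, mul_inv_eq_one] at h
    exact h
  case a4 =>
    have h := rel_at 47 (r := _) rfl
    simp only [map_mul, map_inv, map_pow, FreeGroup.lift_apply_of, mul_inv_eq_one] at h
    exact h
  case u =>
    have h := rel_at 48 (r := _) rfl
    simp only [map_mul, map_inv, map_pow, FreeGroup.lift_apply_of, mul_inv_eq_one] at h
    exact h
  case x23 =>
    have h := rel_at 49 (r := _) rfl
    simp only [map_mul, map_inv, map_pow, FreeGroup.lift_apply_of, mul_inv_eq_one] at h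
    exact h
  case x24 =>
    have h := rel_at 50 (r := _) rfl
    simp only [map_mul, map_inv, map_pow, FreeGroup.lift_apply_of, mul_inv_eq_one] at h
    exact h
  case x25 =>
    have h := rel_at 51 (r := _) rfl
    simp only [map_mul, map_inv, map_pow, FreeGroup.lift_apply_of, mul_inv_eq_one] at h
    exact h
  case x29 =>
    have h := rel_at 52 (r := _) rfl
    simp only [map_mul, map_inv, map_pow, FreeGroup.lift_apply_of, mul_inv_eq_one] at h
    exact h
  case x47 =>
    have h := rel_at 53 (r := _) rfl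
    simp only [map_mul, map_inv, map_pow, FreeGroup.lift_apply_of, mul_inv_eq_one] at h
    exact h
  case x96 =>
    have h := rel_at 54 (r := _) rfl
    simp only [map_mul, map_inv, map_pow, FreeGroup.lift_apply_of, mul_inv_eq_one] at h
    exact h
  case x129 =>
    have h := rel_at 55 (r := _) rfl
    simp only [map_mul, map_inv, map_pow, FreeGroup.lift_apply_of, mul_inv_eq_one] at h
    exact h
  case x162 =>
    have h := rel_at 56 (r := _) rfl
    simp only [map_mul, map_inv, map_pow, FreeGroup.lift_apply_of, mul_inv_eq_one] at h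
    exact h
  case x163 =>
    have h := rel_at 57 (r := _) rfl
    simp only [map_mul, map_inv, map_pow, FreeGroup.lift_apply_of, mul_inv_eq_one] at h
    exact h
  case x164 =>
    have h := rel_at 58 (r := _) rfl
    simp only [map_mul, map_inv, map_pow, FreeGroup.lift_apply_of, mul_inv_eq_one] at h
    exact h
  case x165 =>
    have h := rel_at 59 (r := _) rfl
    simp only [map_mul, map_inv, map_pow, FreeGroup.lift_apply_of, mul_inv_eq_one] at h
    exact h
  case x166 =>
    have h := rel_at 60 (r := _) rfl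
    simp only [map_mul, map_inv, map_pow, FreeGroup.lift_apply_of, mul_inv_eq_one] at h
    exact h
  case x167 =>
    have h := rel_at 61 (r := _) rfl
    simp only [map_mul, map_inv, map_pow, FreeGroup.lift_apply_of, mul_inv_eq_one] at h
    exact h
  case x168 =>
    have h := rel_at 62 (r := _) rfl
    simp only [map_mul, map_inv, map_pow, FreeGroup.lift_apply_of, mul_inv_eq_one] at h
    exact h
  case x169 =>
    have h := rel_at 63 (r := _) rfl
    simp only [map_mul, map_inv, map_pow, FreeGroup.lift_apply_of, mul_inv_eq_one] at h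
    exact h
  case x364 =>
    have h := rel_at 64 (r := _) rfl
    simp only [map_mul, map_inv, map_pow, FreeGroup.lift_apply_of, mul_inv_eq_one] at h
    exact h
  case x365 =>
    have h := rel_at 65 (r := _) rfl
    simp only [map_mul, map_inv, map_pow, FreeGroup.lift_apply_of, mul_inv_eq_one] at h
    exact h
  case x366 =>
    have h := rel_at 66 (r := _) rfl
    simp only [map_mul, map_inv, map_pow, FreeGroup.lift_apply_of, mul_inv_eq_one] at h
    exact h
  case x367 =>
    have h := rel_at 67 (r := _) rfl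
    simp only [map_mul, map_inv, map_pow, FreeGroup.lift_apply_of, mul_inv_eq_one] at h
    exact h
  case x368 =>
    have h := rel_at 68 (r := _) rfl
    simp only [map_mul, map_inv, map_pow, FreeGroup.lift_apply_of, mul_inv_eq_one] at h
    exact h
  case x369 =>
    have h := rel_at 69 (r := _) rfl
    simp only [map_mul, map_inv, map_pow, FreeGroup.lift_apply_of, mul_inv_eq_one] at h
    exact h
  case x370 =>
    have h := rel_at 70 (r := _) rfl
    simp only [map_mul, map_inv, map_pow, FreeGroup.lift_apply_of, mul_inv_eq_one] at h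
    exact h
  case x371 =>
    have h := rel_at 71 (r := _) rfl
    simp only [map_mul, map_inv, map_pow, FreeGroup.lift_apply_of, mul_inv_eq_one] at h
    exact h

theorem closure_range_gg : Subgroup.closure (Set.range gg) = ⊤ := PresentedGroup.closure_range_of _

/-- The subgroup `⟨a, b, c, d⟩` of the presented group. -/
noncomputable def hSub : Subgroup Ly := Subgroup.closure {gg .a, gg .b, gg .c, gg .d}

/-- The facts inside `⟨a, b, c, d⟩` which are needed, for given values of the generators. -/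
abbrev HFactsAt {G : Type*} [Group G] (f : Ly.Gen → G) : Prop :=
  HFacts (f .a) (f .d) (f .u) (f .c1) (f .c2) (f .c3) (f .c4) (f .c5) (f .a2) (f .a3) (f .a4) (f .x162)
    (f .x163) (f .x164) (f .x165) (f .x166) (f .x167) (f .x168) (f .x169) (f .x29) (f .x369)

/-- A group generated by values of the generators for which the relators 1-82 and 84 hold has at most `N` elements. -/
def DCBound (N : ℕ) : Prop :=
  ∀ (G : Type) [Group G] (A B C D Z : G),
    (∀ i : ℕ, i ≠ 82 → i < 84 → ∀ r, Ly.extra[i]? = some r →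
      FreeGroup.lift (genVal A B C D Z) r = 1) →
    Finite (Subgroup.closure ({A, B, C, D, Z} : Set G)) ∧
      Nat.card (Subgroup.closure ({A, B, C, D, Z} : Set G)) ≤ N

theorem hFacts_lift {G H : Type*} [Group G] [Group H] (f : G →* H) (S : Subgroup G)
    (hS : Set.InjOn f S) (v : Ly.Gen → G) (hv : ∀ x, x ≠ Ly.Gen.z → v x ∈ S)
    (h : HFactsAt fun x => f (v x)) : HFactsAt v := by
  have key : ∀ p q : G, p ∈ S → q ∈ S → f p = f q → p = q := fun p q hp hq e => hS hp hq e
  have m : ∀ x, x ≠ Ly.Gen.z → v x ∈ S := hv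
  constructor
  all_goals
    refine key _ _ ?_ ?_ ?_
    · repeat' first
        | exact S.one_mem | apply S.mul_mem | apply S.inv_mem | apply S.pow_mem | exact hv _ (by decide)
    · repeat' first
        | exact S.one_mem | apply S.mul_mem | apply S.inv_mem | apply S.pow_mem | exact hv _ (by decide)
    simp only [map_mul, map_inv, map_pow, map_one]
  · exact h.u8
  · exact h.a4sq
  · exact h.c1p
  · exact h.x162p
  · exact h.c3p
  · exact h.x164p
  · exact h.c2def
  · exact h.x163def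
  · exact h.r22
  · exact h.x22
  · exact h.r23
  · exact h.x23
  · exact h.r24
  · exact h.x24
  · exact h.c5def
  · exact h.x166def
  · exact h.k1
  · exact h.k2
  · exact h.x167def
  · exact h.x168def
  · exact h.k1'
  · exact h.k2'
  · exact h.a3def
  · exact h.x169def
  · exact h.hd
  · exact h.xh
  · exact h.ym
  · exact h.x369p
  · exact h.x29p

set_option maxHeartbeats 2000000 in
/-- The multiplier of the presented Lyons group is trivial. -/
theorem multiplier_Ly {N : ℕ} [Finite Ly] (hN : N ≤ Nat.card Ly) (hperf : commutator hSub = ⊤)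
    (hM : Cfsg.HasCyclicSchurMultiplier hSub 1) (hH : HFactsAt gg) (hDC : DCBound N) :
    Cfsg.HasCyclicSchurMultiplier Ly 1 := by
  refine Cfsg.Agent.Lib.Schur.hasCyclicSchurMultiplier_one_of fun Y _ τ hτ hc => ?_
  -- the section over `hSub`
  let P : Subgroup Y := hSub.comap τ
  let σ : P →* hSub := (τ.comp P.subtype).codRestrict hSub fun x => x.2
  have hσ : Function.Surjective σ := fun h => by
    obtain ⟨y, hy⟩ := hτ h.1
    exact ⟨⟨y, show τ y ∈ hSub by rw [hy]; exact h.2⟩, Subtype.ext hy⟩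
  have hσc : σ.ker ≤ Subgroup.center P := by
    intro x hx
    rw [Subgroup.mem_center_iff]
    intro y
    exact Subtype.ext (Subgroup.mem_center_iff.1 (hc (congrArg Subtype.val hx)) y.1)
  have hbot := Cfsg.Agent.Lib.Schur.ker_inf_commutator_eq_bot hM σ hσ hσc
  have hmap : (commutator P).map σ = ⊤ := by
    rw [commutator_def, Subgroup.map_commutator, Subgroup.map_top_of_surjective σ hσ, ← commutator_def, hperf]
  let S : Subgroup Y := (commutator P).map P.subtype
  have hS : Set.InjOn τ S := by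
    rintro _ ⟨x, hx, rfl⟩ _ ⟨y, hy, rfl⟩ he
    have : x * y⁻¹ ∈ σ.ker ⊓ commutator P :=
      ⟨show σ (x * y⁻¹) = 1 by rw [map_mul, map_inv, mul_inv_eq_one]; exact Subtype.ext he,
        (commutator P).mul_mem hx ((commutator P).inv_mem hy)⟩
    rw [hbot, Subgroup.mem_bot, mul_inv_eq_one] at this
    rw [this]
  have hlift : ∀ g ∈ hSub, ∃ y ∈ S, τ y = g := by
    intro g hg
    have : (⟨g, hg⟩ : hSub) ∈ (commutator P).map σ := by rw [hmap]; trivial
    obtain ⟨x, hx, e⟩ := this
    exact ⟨x.1, ⟨x, hx, rfl⟩, congrArg Subtype.val e⟩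
  obtain ⟨A, hAS, hA⟩ := hlift (gg .a) (Subgroup.subset_closure (by simp))
  obtain ⟨B, hBS, hB⟩ := hlift (gg .b) (Subgroup.subset_closure (by simp))
  obtain ⟨C, hCS, hC⟩ := hlift (gg .c) (Subgroup.subset_closure (by simp))
  obtain ⟨D, hDS, hD⟩ := hlift (gg .d) (Subgroup.subset_closure (by simp))
  obtain ⟨z₀, hz₀⟩ := hτ (gg .z)
  have himg : ∀ w, τ w = gg .z → ∀ x, τ (genVal A B C D w x) = gg x := fun w hw x => by
    rw [genVal_map, hA, hB, hC, hD, hw, ← gg_eq]
  have hmem : ∀ w, ∀ x, x ≠ Ly.Gen.z → genVal A B C D w x ∈ S := by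
    intro w x hx
    cases x <;> first | exact absurd rfl hx | skip
    all_goals simp only [genVal]
    all_goals repeat' first
      | assumption | apply S.mul_mem | apply S.inv_mem | apply S.pow_mem
  -- the exact lift of `z`
  have hH' : HFactsAt (genVal A B C D z₀) :=
    hFacts_lift τ S hS _ (hmem z₀) (by simpa only [HFactsAt, himg z₀ hz₀] using hH)
  have hrel : ∀ w, τ w = gg .z → ∀ r ∈ Ly.extra, FreeGroup.lift (genVal A B C D w) r ∈ τ.ker := by
    intro w hw r hr
    have e : τ.comp (FreeGroup.lift (genVal A B C D w)) = FreeGroup.lift gg :=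
      FreeGroup.ext_hom _ _ fun x => by simp [himg w hw]
    exact (DFunLike.congr_fun e r).trans (rel_one hr)
  have hat : ∀ (i : ℕ) {r : FreeGroup Ly.Gen}, Ly.extra[i]? = some r →
      FreeGroup.lift (genVal A B C D z₀) r ∈ τ.ker := fun i r h => hrel z₀ hz₀ r (List.mem_of_getElem? h)
  have conjmem : ∀ {p q : Y}, p * q⁻¹ ∈ τ.ker → q⁻¹ * p ∈ τ.ker := fun {p q} h => by
    rw [MonoidHom.mem_ker, map_mul, map_inv] at h ⊢
    rw [inv_mul_eq_one, ← mul_inv_eq_one.1 h]
  have m72 := hat 72 (r := _) rfl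
  simp only [map_mul, map_inv, map_pow, FreeGroup.lift_apply_of] at m72
  have m73 := hat 73 (r := _) rfl
  simp only [map_mul, map_inv, map_pow, FreeGroup.lift_apply_of] at m73
  have m74 := hat 74 (r := _) rfl
  simp only [map_mul, map_inv, map_pow, FreeGroup.lift_apply_of] at m74
  have m75 := hat 75 (r := _) rfl
  simp only [map_mul, map_inv, map_pow, FreeGroup.lift_apply_of] at m75
  have m76 := hat 76 (r := _) rfl
  simp only [map_mul, map_inv, map_pow, FreeGroup.lift_apply_of] at m76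
  have m77 := hat 77 (r := _) rfl
  simp only [map_mul, map_inv, map_pow, FreeGroup.lift_apply_of] at m77
  have m78 := hat 78 (r := _) rfl
  simp only [map_mul, map_inv, map_pow, FreeGroup.lift_apply_of] at m78
  have m79 := hat 79 (r := _) rfl
  simp only [map_mul, map_inv, map_pow, FreeGroup.lift_apply_of] at m79
  have m80 := hat 80 (r := _) rfl
  simp only [map_mul, map_inv, map_pow, FreeGroup.lift_apply_of] at m80
  have m81 := hat 81 (r := _) rfl
  simp only [map_mul, map_inv, map_pow, FreeGroup.lift_apply_of] at m81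
  have m83 := hat 83 (r := _) rfl
  simp only [map_mul, map_inv, map_pow, FreeGroup.lift_apply_of] at m83
  have M : ModFacts τ.ker A D (genVal A B C D z₀ .u) (genVal A B C D z₀ .c1) (genVal A B C D z₀ .c2)
      (genVal A B C D z₀ .c3) (genVal A B C D z₀ .c4) (genVal A B C D z₀ .c5) (genVal A B C D z₀ .a2)
      (genVal A B C D z₀ .a3) (genVal A B C D z₀ .a4) z₀ (genVal A B C D z₀ .x162) (genVal A B C D z₀ .x163)
      (genVal A B C D z₀ .x164) (genVal A B C D z₀ .x165) (genVal A B C D z₀ .x166)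
      (genVal A B C D z₀ .x167) (genVal A B C D z₀ .x168) (genVal A B C D z₀ .x169)
      (genVal A B C D z₀ .x29) (genVal A B C D z₀ .x369) := by
    refine ⟨conjmem m72, conjmem m73, conjmem m74, conjmem m75, conjmem m76, conjmem m77,
      conjmem m78, conjmem m79, ?_, m81, m83⟩
    rw [pow_two] at m80
    exact m80
  obtain ⟨w, hwz, e73, e74, e75, e76, e77, e78, e79, e80, e81, e82, e84⟩ := exists_exact hH' hc M
  have hw : τ w = gg .z := by
    rw [MonoidHom.mem_ker, map_mul, map_inv, inv_mul_eq_one] at hwz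
    rw [← hwz, hz₀]
  have hrels : ∀ i : ℕ, i ≠ 82 → i < 84 → ∀ r, Ly.extra[i]? = some r →
      FreeGroup.lift (genVal A B C D w) r = 1 := by
    have hin : ∀ p, p ∈ S → τ p = 1 → p = 1 := fun p hp h => hS hp S.one_mem (by rw [h, map_one])
    intro i h82 h84 r hr'
    have hk := hrel w hw r (List.mem_of_getElem? hr')
    rw [MonoidHom.mem_ker] at hk
    interval_cases i <;> obtain rfl := Option.some.inj hr'
    all_goals first
      | (refine hin _ ?_ hk
         simp only [map_mul, map_inv, map_pow, FreeGroup.lift_apply_of, genVal]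
         repeat' first | assumption | apply S.mul_mem | apply S.inv_mem | apply S.pow_mem
         done)
      | (simp only [genVal] at e73 e74 e75 e76 e77 e78 e79 e80 e81 e82 e84
         simp only [map_mul, map_inv, map_pow, FreeGroup.lift_apply_of, genVal, pow_two w, mul_inv_eq_one,
           e73, e74, e75, e76, e77, e78, e79, e80, e81, e82, e84, mul_inv_cancel]
         done)
      | exact absurd rfl h82
  obtain ⟨hfin, hcard⟩ := hDC Y A B C D w hrels
  set T := Subgroup.closure ({A, B, C, D, w} : Set Y) with hT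
  have hval : ∀ x, genVal A B C D w x ∈ T := by
    intro x
    have a1 : A ∈ T := Subgroup.subset_closure (by simp)
    have a2 : B ∈ T := Subgroup.subset_closure (by simp)
    have a3 : C ∈ T := Subgroup.subset_closure (by simp)
    have a4 : D ∈ T := Subgroup.subset_closure (by simp)
    have a5 : w ∈ T := Subgroup.subset_closure (by simp)
    cases x <;> simp only [genVal]
    all_goals repeat' first
      | assumption | apply T.mul_mem | apply T.inv_mem | apply T.pow_mem
  have hsurj : Function.Surjective (τ.comp T.subtype) := by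
    rw [← MonoidHom.range_eq_top, eq_top_iff, ← closure_range_gg, Subgroup.closure_le]
    rintro _ ⟨x, rfl⟩
    exact ⟨⟨_, hval x⟩, himg w hw x⟩
  haveI := hfin
  haveI : Fintype T := Fintype.ofFinite T
  have hbij := hsurj.bijective_of_nat_card_le (hcard.trans hN)
  rw [eq_bot_iff]
  intro y hy
  have hyT : y ∈ T := by
    have : commutator Y ≤ T := by
      rw [commutator_def, Subgroup.commutator_le]
      intro g _ h _
      obtain ⟨⟨g', hg'⟩, eg⟩ := hsurj (τ g)
      obtain ⟨⟨h', hh'⟩, eh⟩ := hsurj (τ h)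
      have cg : g'⁻¹ * g ∈ Subgroup.center Y :=
        hc (by rw [MonoidHom.mem_ker, map_mul, map_inv, inv_mul_eq_one]; exact eg)
      have ch : h'⁻¹ * h ∈ Subgroup.center Y :=
        hc (by rw [MonoidHom.mem_ker, map_mul, map_inv, inv_mul_eq_one]; exact eh)
      have : ⁅g, h⁆ = ⁅g', h'⁆ := by
        have c1 := Subgroup.mem_center_iff.1 cg
        have c2 := Subgroup.mem_center_iff.1 ch
        set e := g'⁻¹ * g with he
        set k := h'⁻¹ * h with hk
        have hg : g = g' * e := by rw [he]; group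
        have hh : h = h' * k := by rw [hk]; group
        rw [hg, hh]
        simp only [commutatorElement_def]
        calc g' * e * (h' * k) * (g' * e)⁻¹ * (h' * k)⁻¹
            = g' * (e * (h' * k)) * (e⁻¹ * g'⁻¹ * k⁻¹ * h'⁻¹) := by group
          _ = g' * ((h' * k) * e) * (e⁻¹ * g'⁻¹ * k⁻¹ * h'⁻¹) := by rw [c1 (h' * k)]
          _ = g' * h' * (k * g'⁻¹) * k⁻¹ * h'⁻¹ := by group
          _ = g' * h' * (g'⁻¹ * k) * k⁻¹ * h'⁻¹ := by rw [c2 g'⁻¹]
          _ = _ := by group
      rw [this, commutatorElement_def]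
      exact T.mul_mem (T.mul_mem (T.mul_mem hg' hh') (T.inv_mem hg')) (T.inv_mem hh')
    exact this hy.2
  have h1 : (⟨y, hyT⟩ : T) = 1 := hbij.injective (by
    rw [map_one]; exact hy.1)
  exact congrArg Subtype.val h1

end Cfsg.Agent.Lib.LyMult97
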