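import Cfsg.Agent.Lib.LyMult97.Main
import Cfsg.Agent.Lib.Chev.Perfect
import Cfsg.Agent.S2100

/-! The inputs on `⟨a, b, c, d⟩` from an isomorphism with `G₂(5)`. -/

set_option autoImplicit false

namespace Cfsg.Agent.Lib.LyMult97

open Cfsg Cfsg.Spor

theorem perfect_and_multiplier {K : Type} [Field K] [Fintype K] (hK : Fintype.card K = 5)
    (e : hSub ≃* ↥(Cfsg.Lie.chevG2.group K)) :
    commutator hSub = ⊤ ∧ Cfsg.HasCyclicSchurMultiplier hSub 1 := by
  classical
  refine ⟨?_, Cfsg.Agent.Lib.Schur.hasSchurMultiplier_congr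
    (Cfsg.Agent.S2100.result (F := K) (by omega)) e.symm (MulEquiv.refl _)⟩
  have hF : ∃ a : K, a ≠ 0 ∧ a ≠ 1 := by
    by_contra h
    push Not at h
    have hsub : (Finset.univ : Finset K) ⊆ {0, 1} := fun x _ => by
      by_cases hx : x = 0 <;> simp [hx, h x]
    have := (Finset.card_le_card hsub).trans Finset.card_le_two
    rw [Finset.card_univ, hK] at this
    omega
  have hp : commutator ↥(Cfsg.Lie.chevG2.group K) = ⊤ := Cfsg.Agent.Lib.Chev.perfect_G2 hF
  rw [commutator_def] at hp ⊢
  apply Subgroup.map_injective (f := e.toMonoidHom) e.injective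
  rw [Subgroup.map_commutator, Subgroup.map_top_of_surjective e.toMonoidHom e.surjective, hp]

/-- `hSub` is the subgroup of S1710. -/
theorem map_closure_eq_hSub :
    (Subgroup.closure ({Ly.a, Ly.b, Ly.c, Ly.d} : Set (FreeGroup Ly.Gen))).map
      (PresentedGroup.mk (coxRelators Ly.edges ∪ {r | r ∈ Ly.extra})) = hSub := by
  rw [hSub, MonoidHom.map_closure]
  congr 1
  simp [Set.image_insert_eq, gg, PresentedGroup.of]

end Cfsg.Agent.Lib.LyMult97
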