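import Cfsg.Agent.Lib.LyMult97.HIdent
import Cfsg.Agent.Lib.LyMult97.HLevel
import Cfsg.Agent.Lib.LyH.Rel

/-! The multiplier of the presented Lyons group from the exports of the Lyons libraries. -/

set_option autoImplicit false

namespace Cfsg.Agent.Lib.LyMult97

open Cfsg Cfsg.Spor

theorem lift_gg_of (x : Ly.Gen) : FreeGroup.lift gg (FreeGroup.of x) = gg x := by simp

theorem hFacts_gg (hI : LyDC.BaseInj)
    (hφ : ∀ (G : Type) [Group G] (a b c d : G), LyH.LyRel a b c d → ∃ φ : LyDC.Hbar →* G,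
      φ (LyDC.rep.f 0) = a ∧ φ (LyDC.rep.f 2) = b ∧ φ (LyDC.rep.f 4) = c ∧ φ (LyDC.rep.f 6) = d) :
    HFactsAt gg := by
  have hR := (LyH.lyRel_of_extra (FreeGroup.lift gg) fun r hr => rel_one hr).1
  obtain ⟨φ, ha, hb, hc, hd⟩ := hφ Ly _ _ _ _ hR
  have h := hFacts_of_hom hI (gg .z) φ (ha.trans (lift_gg_of _)) (hb.trans (lift_gg_of _))
    (hc.trans (lift_gg_of _)) (hd.trans (lift_gg_of _))
  have e : gg = genVal (gg .a) (gg .b) (gg .c) (gg .d) (gg .z) := funext gg_eq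
  rw [e]
  exact h

/-- Assembly. -/
theorem multiplier_Ly_of {K : Type} [Field K] [Fintype K] (hK : Fintype.card K = 5)
    (e : hSub ≃* ↥(Cfsg.Lie.chevG2.group K)) {N : ℕ} [Finite Ly] (hN : N ≤ Nat.card Ly)
    (hI : LyDC.BaseInj)
    (hφ : ∀ (G : Type) [Group G] (a b c d : G), LyH.LyRel a b c d → ∃ φ : LyDC.Hbar →* G,
      φ (LyDC.rep.f 0) = a ∧ φ (LyDC.rep.f 2) = b ∧ φ (LyDC.rep.f 4) = c ∧ φ (LyDC.rep.f 6) = d)
    (hDC : DCBound N) : Cfsg.HasCyclicSchurMultiplier Ly 1 :=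
  multiplier_Ly hN (perfect_and_multiplier hK e).1 (perfect_and_multiplier hK e).2 (hFacts_gg hI hφ) hDC

end Cfsg.Agent.Lib.LyMult97
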