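import Cfsg.Agent.Lib.LyMult97.Main
import Cfsg.Agent.Lib.LyDC.Perm

/-! Generated: the identities in `⟨a, b, c, d⟩`, read off the 19530 points. -/

set_option autoImplicit false
set_option linter.unusedSimpArgs false
set_option linter.unnecessarySimpa false

namespace Cfsg.Agent.Lib.LyMult97

open Cfsg.Agent.Lib

variable {G : Type*} [Group G]

/-- Value of a word in the eight letters. -/
def hVal (A B C D : G) (w : List ℕ) : G :=
  (w.map fun l => [A, A⁻¹, B, B⁻¹, C, C⁻¹, D, D⁻¹].getD l 1).prod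

theorem decode_single : ∀ w : List ℕ, (∀ l ∈ w, l < 8) → LyDC.decode (w.map Nat.succ) = w
  | [], _ => rfl
  | l :: w, h => by
    have hl := h l (by simp)
    rw [List.map_cons, LyDC.decode_cons, decode_single w fun x hx => h x (by simp [hx])]
    interval_cases l <;> rfl

/-- Words moving the base alike have equal values. -/
theorem hVal_eq (hI : LyDC.BaseInj) {A B C D : G} (φ : LyDC.Hbar →* G) (ha : φ (LyDC.rep.f 0) = A)
    (hb : φ (LyDC.rep.f 2) = B) (hc : φ (LyDC.rep.f 4) = C) (hd : φ (LyDC.rep.f 6) = D) {w w' : List ℕ}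
    (hw : ∀ l ∈ w, l < 8) (hw' : ∀ l ∈ w', l < 8)
    (h : LyDC.tabs.same LyDC.base (w.map Nat.succ) (w'.map Nat.succ) = true) :
    hVal A B C D w = hVal A B C D w' := by
  have e := congrArg φ (LyDC.rep.eq_of_same LyDC.base_lt hI h)
  simp only [LyDC.Rep.ev, decode_single _ hw, decode_single _ hw', map_list_prod, List.map_map, Function.comp_def] at e
  have key : ∀ l < 8, φ (LyDC.rep.f l) = [A, A⁻¹, B, B⁻¹, C, C⁻¹, D, D⁻¹].getD l 1 := by
    intro l hl
    interval_cases l
    · exact ha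
    · rw [show (1 : ℕ) = 0 ^^^ 1 from rfl, LyDC.rep_inv (by decide), map_inv, ha]; rfl
    · exact hb
    · rw [show (3 : ℕ) = 2 ^^^ 1 from rfl, LyDC.rep_inv (by decide), map_inv, hb]; rfl
    · exact hc
    · rw [show (5 : ℕ) = 4 ^^^ 1 from rfl, LyDC.rep_inv (by decide), map_inv, hc]; rfl
    · exact hd
    · rw [show (7 : ℕ) = 6 ^^^ 1 from rfl, LyDC.rep_inv (by decide), map_inv, hd]; rfl
  rw [hVal, hVal]
  rwa [List.map_congr_left (g := fun l => [A, A⁻¹, B, B⁻¹, C, C⁻¹, D, D⁻¹].getD l 1) fun l hl => key l (hw l hl),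
    List.map_congr_left (g := fun l => [A, A⁻¹, B, B⁻¹, C, C⁻¹, D, D⁻¹].getD l 1) fun l hl => key l (hw' l hl)]
    at e

theorem chk_u8 : LyDC.tabs.same LyDC.base (([0, 0, 0, 0, 0, 0, 0, 0] : List ℕ).map Nat.succ) (([] : List ℕ).map Nat.succ) = true := by
  decide +kernel

theorem chk_a4sq : LyDC.tabs.same LyDC.base (([3, 3, 0, 2, 2, 3, 3, 0, 2, 2] : List ℕ).map Nat.succ) (([0, 0] : List ℕ).map Nat.succ) = true := by
  decide +kernel

theorem chk_c1p : LyDC.tabs.same LyDC.base (([4, 4, 4, 4, 4] : List ℕ).map Nat.succ) (([] : List ℕ).map Nat.succ) = true := by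
  decide +kernel

theorem chk_x162p : LyDC.tabs.same LyDC.base (([1, 3, 1, 2, 5, 3, 0, 5, 2, 0, 1, 3, 1, 2, 5, 3, 0, 5, 2, 0, 1, 3, 1, 2, 5, 3, 0, 5, 2, 0, 1, 3, 1, 2, 5, 3, 0, 5, 2, 0, 1, 3, 1, 2, 5, 3, 0, 5, 2, 0] : List ℕ).map Nat.succ) (([] : List ℕ).map Nat.succ) = true := by
  decide +kernel

theorem chk_c3p : LyDC.tabs.same LyDC.base (([3, 4, 2, 3, 4, 2, 3, 4, 2, 3, 4, 2, 3, 4, 2] : List ℕ).map Nat.succ) (([] : List ℕ).map Nat.succ) = true := by
  decide +kernel

theorem chk_x164p : LyDC.tabs.same LyDC.base (([1, 3, 1, 4, 0, 2, 0, 1, 3, 1, 4, 0, 2, 0, 1, 3, 1, 4, 0, 2, 0, 1, 3, 1, 4, 0, 2, 0, 1, 3, 1, 4, 0, 2, 0] : List ℕ).map Nat.succ) (([] : List ℕ).map Nat.succ) = true := by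
  decide +kernel

theorem chk_c2def : LyDC.tabs.same LyDC.base (([1, 4, 0] : List ℕ).map Nat.succ) (([1, 4, 0] : List ℕ).map Nat.succ) = true := by
  decide +kernel

theorem chk_x163def : LyDC.tabs.same LyDC.base (([0, 0, 0, 1, 3, 1, 2, 5, 3, 0, 5, 2, 0, 1, 1, 1] : List ℕ).map Nat.succ) (([3, 3, 0, 4, 1, 2, 4, 2] : List ℕ).map Nat.succ) = true := by
  decide +kernel

theorem chk_r22 : LyDC.tabs.same LyDC.base (([1, 1, 4, 0, 0] : List ℕ).map Nat.succ) (([5, 5] : List ℕ).map Nat.succ) = true := by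
  decide +kernel

theorem chk_x22 : LyDC.tabs.same LyDC.base (([0, 0, 0, 3, 3, 0, 4, 1, 2, 4, 2, 1, 1, 1] : List ℕ).map Nat.succ) (([1, 3, 4, 1, 2, 4, 3, 0, 2, 0, 1, 3, 4, 1, 2, 4, 3, 0, 2, 0] : List ℕ).map Nat.succ) = true := by
  decide +kernel

theorem chk_r23 : LyDC.tabs.same LyDC.base (([1, 3, 4, 2, 0] : List ℕ).map Nat.succ) (([3, 5, 2, 3, 5, 2, 4, 2, 4, 3] : List ℕ).map Nat.succ) = true := by
  decide +kernel

theorem chk_x23 : LyDC.tabs.same LyDC.base (([0, 0, 0, 1, 3, 1, 4, 0, 2, 0, 1, 1, 1] : List ℕ).map Nat.succ) (([1, 3, 1, 5, 0, 2, 0, 1, 3, 1, 5, 0, 2, 0, 1, 3, 1, 2, 5, 3, 0, 5, 2, 0, 3, 1, 2, 4, 3, 0, 2] : List ℕ).map Nat.succ) = true := by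
  decide +kernel

theorem chk_r24 : LyDC.tabs.same LyDC.base (([1, 2, 4, 3, 0] : List ℕ).map Nat.succ) (([4, 1, 5, 0, 3, 5, 2, 2, 4, 3, 4, 2, 4, 3] : List ℕ).map Nat.succ) = true := by
  decide +kernel

theorem chk_x24 : LyDC.tabs.same LyDC.base (([0, 0, 0, 3, 1, 2, 4, 3, 0, 2, 1, 1, 1] : List ℕ).map Nat.succ) (([1, 3, 1, 2, 5, 3, 0, 5, 2, 0, 3, 5, 3, 0, 5, 1, 2, 2, 1, 3, 1, 5, 0, 2, 0, 3, 1, 2, 4, 3, 0, 2, 1, 3, 1, 2, 5, 3, 0, 5, 2, 0, 3, 1, 2, 4, 3, 0, 2] : List ℕ).map Nat.succ) = true := by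
  decide +kernel

theorem chk_c5def : LyDC.tabs.same LyDC.base (([5, 1, 5, 0, 4, 1, 4, 0] : List ℕ).map Nat.succ) (([5, 1, 5, 0, 4, 1, 4, 0] : List ℕ).map Nat.succ) = true := by
  decide +kernel

theorem chk_x166def : LyDC.tabs.same LyDC.base (([1, 3, 4, 1, 2, 4, 3, 0, 2, 0, 3, 5, 3, 0, 5, 1, 2, 2, 1, 3, 1, 2, 5, 3, 0, 5, 2, 0, 3, 3, 0, 4, 1, 2, 4, 2] : List ℕ).map Nat.succ) (([2, 2, 1, 3, 4, 2, 0, 4, 3, 3, 5] : List ℕ).map Nat.succ) = true := by
  decide +kernel

theorem chk_k1 : LyDC.tabs.same LyDC.base (([3, 3, 1, 2, 2, 0, 3, 3, 0, 2, 2] : List ℕ).map Nat.succ) (([0, 0, 0, 0, 0] : List ℕ).map Nat.succ) = true := by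
  decide +kernel

theorem chk_k2 : LyDC.tabs.same LyDC.base (([3, 3, 1, 2, 2, 2, 0, 3, 3, 3, 0, 2, 2] : List ℕ).map Nat.succ) (([2, 0, 3, 0, 0, 0, 0] : List ℕ).map Nat.succ) = true := by
  decide +kernel

theorem chk_x167def : LyDC.tabs.same LyDC.base (([1, 1, 1] : List ℕ).map Nat.succ) (([0, 0, 0, 0, 0] : List ℕ).map Nat.succ) = true := by
  decide +kernel

theorem chk_x168def : LyDC.tabs.same LyDC.base (([2, 1, 3, 1, 1] : List ℕ).map Nat.succ) (([2, 0, 3, 0, 0, 0, 0] : List ℕ).map Nat.succ) = true := by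
  decide +kernel

theorem chk_k1b : LyDC.tabs.same LyDC.base (([3, 3, 1, 2, 2, 1, 1, 1, 3, 3, 0, 2, 2] : List ℕ).map Nat.succ) (([0] : List ℕ).map Nat.succ) = true := by
  decide +kernel

theorem chk_k2b : LyDC.tabs.same LyDC.base (([3, 3, 1, 2, 2, 2, 1, 3, 1, 1, 3, 3, 0, 2, 2] : List ℕ).map Nat.succ) (([2, 0, 3] : List ℕ).map Nat.succ) = true := by
  decide +kernel

theorem chk_a3def : LyDC.tabs.same LyDC.base (([2, 1, 3, 2, 2, 1, 3, 3, 2, 0, 3, 2, 2, 0, 3, 3, 2, 0, 3] : List ℕ).map Nat.succ) (([2, 2, 0, 3, 3] : List ℕ).map Nat.succ) = true := by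
  decide +kernel

theorem chk_x169def : LyDC.tabs.same LyDC.base (([0, 0, 2, 0, 3, 0, 2, 2, 1, 3, 3, 1, 2, 1, 3, 1, 1, 0, 2, 2, 0, 3, 3, 1, 2, 1, 3, 1, 1] : List ℕ).map Nat.succ) (([0, 2, 2, 0, 3, 3, 1] : List ℕ).map Nat.succ) = true := by
  decide +kernel

theorem chk_hd : LyDC.tabs.same LyDC.base (([7, 1, 1, 1, 0, 2, 2, 0, 3, 3, 1, 6] : List ℕ).map Nat.succ) (([2, 2, 0, 3, 3, 0] : List ℕ).map Nat.succ) = true := by
  decide +kernel

theorem chk_xh : LyDC.tabs.same LyDC.base (([2, 2, 1, 3, 3, 1, 1, 5, 7, 2, 1, 3, 5, 7, 2, 1, 3, 5, 3, 0, 3, 3, 0, 3, 0, 2, 2, 0, 3, 3] : List ℕ).map Nat.succ) (([2, 1, 2, 2, 1, 2, 4, 2, 0, 3, 6, 4, 2, 0, 3, 6, 4, 0] : List ℕ).map Nat.succ) = true := by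
  decide +kernel

theorem chk_ym : LyDC.tabs.same LyDC.base (([0, 0, 0, 0, 2, 2, 1, 3, 3, 1, 5, 3, 5, 7, 2, 2, 5, 7, 2, 5, 3, 5, 1, 4, 3, 3, 0, 3, 3, 0, 3, 1, 0, 2, 2, 0, 3, 3, 1, 1, 1, 1] : List ℕ).map Nat.succ) (([0, 2, 1, 2, 2, 1, 2, 2, 5, 0, 4, 2, 4, 3, 6, 4, 3, 3, 6, 4, 2, 4] : List ℕ).map Nat.succ) = true := by
  decide +kernel

theorem chk_x369p : LyDC.tabs.same LyDC.base (([1, 5, 7, 2, 1, 3, 5, 7, 2, 1, 3, 5, 3, 0, 3, 3, 0, 3, 1, 5, 7, 2, 1, 3, 5, 7, 2, 1, 3, 5, 3, 0, 3, 3, 0, 3, 1, 5, 7, 2, 1, 3, 5, 7, 2, 1, 3, 5, 3, 0, 3, 3, 0, 3] : List ℕ).map Nat.succ) (([] : List ℕ).map Nat.succ) = true := by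
  decide +kernel

theorem chk_x29p : LyDC.tabs.same LyDC.base (([0, 2, 1, 2, 2, 1, 2, 2, 5, 0, 4, 2, 4, 3, 6, 4, 3, 3, 6, 4, 2, 4, 0, 2, 1, 2, 2, 1, 2, 2, 5, 0, 4, 2, 4, 3, 6, 4, 3, 3, 6, 4, 2, 4, 0, 2, 1, 2, 2, 1, 2, 2, 5, 0, 4, 2, 4, 3, 6, 4, 3, 3, 6, 4, 2, 4] : List ℕ).map Nat.succ) (([] : List ℕ).map Nat.succ) = true := by
  decide +kernel

/-- The identities hold in any group receiving `Hbar`. -/
theorem hFacts_of_hom (hI : LyDC.BaseInj) {A B C D : G} (Z : G) (φ : LyDC.Hbar →* G)
    (ha : φ (LyDC.rep.f 0) = A) (hb : φ (LyDC.rep.f 2) = B) (hc : φ (LyDC.rep.f 4) = C)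
    (hd : φ (LyDC.rep.f 6) = D) : HFactsAt (genVal A B C D Z) := by
  constructor
  · have h := hVal_eq hI φ ha hb hc hd (by decide) (by decide) chk_u8
    simp only [hVal, List.map_cons, List.map_nil, List.prod_cons, List.prod_nil, List.getD_cons_zero, List.getD_cons_succ,
      mul_one] at h
    simpa only [genVal, pow_succ, pow_zero, one_mul, mul_inv_rev, inv_inv, mul_assoc] using h
  · have h := hVal_eq hI φ ha hb hc hd (by decide) (by decide) chk_a4sq
    simp only [hVal, List.map_cons, List.map_nil, List.prod_cons, List.prod_nil, List.getD_cons_zero, List.getD_cons_succ,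
      mul_one] at h
    simpa only [genVal, pow_succ, pow_zero, one_mul, mul_inv_rev, inv_inv, mul_assoc] using h
  · have h := hVal_eq hI φ ha hb hc hd (by decide) (by decide) chk_c1p
    simp only [hVal, List.map_cons, List.map_nil, List.prod_cons, List.prod_nil, List.getD_cons_zero, List.getD_cons_succ,
      mul_one] at h
    simpa only [genVal, pow_succ, pow_zero, one_mul, mul_inv_rev, inv_inv, mul_assoc] using h
  · have h := hVal_eq hI φ ha hb hc hd (by decide) (by decide) chk_x162p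
    simp only [hVal, List.map_cons, List.map_nil, List.prod_cons, List.prod_nil, List.getD_cons_zero, List.getD_cons_succ,
      mul_one] at h
    simpa only [genVal, pow_succ, pow_zero, one_mul, mul_inv_rev, inv_inv, mul_assoc] using h
  · have h := hVal_eq hI φ ha hb hc hd (by decide) (by decide) chk_c3p
    simp only [hVal, List.map_cons, List.map_nil, List.prod_cons, List.prod_nil, List.getD_cons_zero, List.getD_cons_succ,
      mul_one] at h
    simpa only [genVal, pow_succ, pow_zero, one_mul, mul_inv_rev, inv_inv, mul_assoc] using h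
  · have h := hVal_eq hI φ ha hb hc hd (by decide) (by decide) chk_x164p
    simp only [hVal, List.map_cons, List.map_nil, List.prod_cons, List.prod_nil, List.getD_cons_zero, List.getD_cons_succ,
      mul_one] at h
    simpa only [genVal, pow_succ, pow_zero, one_mul, mul_inv_rev, inv_inv, mul_assoc] using h
  · have h := hVal_eq hI φ ha hb hc hd (by decide) (by decide) chk_c2def
    simp only [hVal, List.map_cons, List.map_nil, List.prod_cons, List.prod_nil, List.getD_cons_zero, List.getD_cons_succ,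
      mul_one] at h
    simpa only [genVal, pow_succ, pow_zero, one_mul, mul_inv_rev, inv_inv, mul_assoc] using h
  · have h := hVal_eq hI φ ha hb hc hd (by decide) (by decide) chk_x163def
    simp only [hVal, List.map_cons, List.map_nil, List.prod_cons, List.prod_nil, List.getD_cons_zero, List.getD_cons_succ,
      mul_one] at h
    simpa only [genVal, pow_succ, pow_zero, one_mul, mul_inv_rev, inv_inv, mul_assoc] using h
  · have h := hVal_eq hI φ ha hb hc hd (by decide) (by decide) chk_r22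
    simp only [hVal, List.map_cons, List.map_nil, List.prod_cons, List.prod_nil, List.getD_cons_zero, List.getD_cons_succ,
      mul_one] at h
    simpa only [genVal, pow_succ, pow_zero, one_mul, mul_inv_rev, inv_inv, mul_assoc] using h
  · have h := hVal_eq hI φ ha hb hc hd (by decide) (by decide) chk_x22
    simp only [hVal, List.map_cons, List.map_nil, List.prod_cons, List.prod_nil, List.getD_cons_zero, List.getD_cons_succ,
      mul_one] at h
    simpa only [genVal, pow_succ, pow_zero, one_mul, mul_inv_rev, inv_inv, mul_assoc] using h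
  · have h := hVal_eq hI φ ha hb hc hd (by decide) (by decide) chk_r23
    simp only [hVal, List.map_cons, List.map_nil, List.prod_cons, List.prod_nil, List.getD_cons_zero, List.getD_cons_succ,
      mul_one] at h
    simpa only [genVal, pow_succ, pow_zero, one_mul, mul_inv_rev, inv_inv, mul_assoc] using h
  · have h := hVal_eq hI φ ha hb hc hd (by decide) (by decide) chk_x23
    simp only [hVal, List.map_cons, List.map_nil, List.prod_cons, List.prod_nil, List.getD_cons_zero, List.getD_cons_succ,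
      mul_one] at h
    simpa only [genVal, pow_succ, pow_zero, one_mul, mul_inv_rev, inv_inv, mul_assoc] using h
  · have h := hVal_eq hI φ ha hb hc hd (by decide) (by decide) chk_r24
    simp only [hVal, List.map_cons, List.map_nil, List.prod_cons, List.prod_nil, List.getD_cons_zero, List.getD_cons_succ,
      mul_one] at h
    simpa only [genVal, pow_succ, pow_zero, one_mul, mul_inv_rev, inv_inv, mul_assoc] using h
  · have h := hVal_eq hI φ ha hb hc hd (by decide) (by decide) chk_x24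
    simp only [hVal, List.map_cons, List.map_nil, List.prod_cons, List.prod_nil, List.getD_cons_zero, List.getD_cons_succ,
      mul_one] at h
    simpa only [genVal, pow_succ, pow_zero, one_mul, mul_inv_rev, inv_inv, mul_assoc] using h
  · have h := hVal_eq hI φ ha hb hc hd (by decide) (by decide) chk_c5def
    simp only [hVal, List.map_cons, List.map_nil, List.prod_cons, List.prod_nil, List.getD_cons_zero, List.getD_cons_succ,
      mul_one] at h
    simpa only [genVal, pow_succ, pow_zero, one_mul, mul_inv_rev, inv_inv, mul_assoc] using h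
  · have h := hVal_eq hI φ ha hb hc hd (by decide) (by decide) chk_x166def
    simp only [hVal, List.map_cons, List.map_nil, List.prod_cons, List.prod_nil, List.getD_cons_zero, List.getD_cons_succ,
      mul_one] at h
    simpa only [genVal, pow_succ, pow_zero, one_mul, mul_inv_rev, inv_inv, mul_assoc] using h
  · have h := hVal_eq hI φ ha hb hc hd (by decide) (by decide) chk_k1
    simp only [hVal, List.map_cons, List.map_nil, List.prod_cons, List.prod_nil, List.getD_cons_zero, List.getD_cons_succ,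
      mul_one] at h
    simpa only [genVal, pow_succ, pow_zero, one_mul, mul_inv_rev, inv_inv, mul_assoc] using h
  · have h := hVal_eq hI φ ha hb hc hd (by decide) (by decide) chk_k2
    simp only [hVal, List.map_cons, List.map_nil, List.prod_cons, List.prod_nil, List.getD_cons_zero, List.getD_cons_succ,
      mul_one] at h
    simpa only [genVal, pow_succ, pow_zero, one_mul, mul_inv_rev, inv_inv, mul_assoc] using h
  · have h := hVal_eq hI φ ha hb hc hd (by decide) (by decide) chk_x167def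
    simp only [hVal, List.map_cons, List.map_nil, List.prod_cons, List.prod_nil, List.getD_cons_zero, List.getD_cons_succ,
      mul_one] at h
    simpa only [genVal, pow_succ, pow_zero, one_mul, mul_inv_rev, inv_inv, mul_assoc] using h
  · have h := hVal_eq hI φ ha hb hc hd (by decide) (by decide) chk_x168def
    simp only [hVal, List.map_cons, List.map_nil, List.prod_cons, List.prod_nil, List.getD_cons_zero, List.getD_cons_succ,
      mul_one] at h
    simpa only [genVal, pow_succ, pow_zero, one_mul, mul_inv_rev, inv_inv, mul_assoc] using h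
  · have h := hVal_eq hI φ ha hb hc hd (by decide) (by decide) chk_k1b
    simp only [hVal, List.map_cons, List.map_nil, List.prod_cons, List.prod_nil, List.getD_cons_zero, List.getD_cons_succ,
      mul_one] at h
    simpa only [genVal, pow_succ, pow_zero, one_mul, mul_inv_rev, inv_inv, mul_assoc] using h
  · have h := hVal_eq hI φ ha hb hc hd (by decide) (by decide) chk_k2b
    simp only [hVal, List.map_cons, List.map_nil, List.prod_cons, List.prod_nil, List.getD_cons_zero, List.getD_cons_succ,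
      mul_one] at h
    simpa only [genVal, pow_succ, pow_zero, one_mul, mul_inv_rev, inv_inv, mul_assoc] using h
  · have h := hVal_eq hI φ ha hb hc hd (by decide) (by decide) chk_a3def
    simp only [hVal, List.map_cons, List.map_nil, List.prod_cons, List.prod_nil, List.getD_cons_zero, List.getD_cons_succ,
      mul_one] at h
    simpa only [genVal, pow_succ, pow_zero, one_mul, mul_inv_rev, inv_inv, mul_assoc] using h
  · have h := hVal_eq hI φ ha hb hc hd (by decide) (by decide) chk_x169def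
    simp only [hVal, List.map_cons, List.map_nil, List.prod_cons, List.prod_nil, List.getD_cons_zero, List.getD_cons_succ,
      mul_one] at h
    simpa only [genVal, pow_succ, pow_zero, one_mul, mul_inv_rev, inv_inv, mul_assoc] using h
  · have h := hVal_eq hI φ ha hb hc hd (by decide) (by decide) chk_hd
    simp only [hVal, List.map_cons, List.map_nil, List.prod_cons, List.prod_nil, List.getD_cons_zero, List.getD_cons_succ,
      mul_one] at h
    simpa only [genVal, pow_succ, pow_zero, one_mul, mul_inv_rev, inv_inv, mul_assoc] using h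
  · have h := hVal_eq hI φ ha hb hc hd (by decide) (by decide) chk_xh
    simp only [hVal, List.map_cons, List.map_nil, List.prod_cons, List.prod_nil, List.getD_cons_zero, List.getD_cons_succ,
      mul_one] at h
    simpa only [genVal, pow_succ, pow_zero, one_mul, mul_inv_rev, inv_inv, mul_assoc] using h
  · have h := hVal_eq hI φ ha hb hc hd (by decide) (by decide) chk_ym
    simp only [hVal, List.map_cons, List.map_nil, List.prod_cons, List.prod_nil, List.getD_cons_zero, List.getD_cons_succ,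
      mul_one] at h
    simpa only [genVal, pow_succ, pow_zero, one_mul, mul_inv_rev, inv_inv, mul_assoc] using h
  · have h := hVal_eq hI φ ha hb hc hd (by decide) (by decide) chk_x369p
    simp only [hVal, List.map_cons, List.map_nil, List.prod_cons, List.prod_nil, List.getD_cons_zero, List.getD_cons_succ,
      mul_one] at h
    simpa only [genVal, pow_succ, pow_zero, one_mul, mul_inv_rev, inv_inv, mul_assoc] using h
  · have h := hVal_eq hI φ ha hb hc hd (by decide) (by decide) chk_x29p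
    simp only [hVal, List.map_cons, List.map_nil, List.prod_cons, List.prod_nil, List.getD_cons_zero, List.getD_cons_succ,
      mul_one] at h
    simpa only [genVal, pow_succ, pow_zero, one_mul, mul_inv_rev, inv_inv, mul_assoc] using h

end Cfsg.Agent.Lib.LyMult97
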